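import Mathlib
import Cfsg.Agent.H76.RuTwo.Defs

/-! Faithfulness. -/

set_option autoImplicit false
set_option maxRecDepth 100000

namespace H76.RuTwo

open H93.Coset (allRange)

theorem faith_0 : allRange 0 512 faithChk = true := by decide +kernel

theorem faith_1 : allRange 512 512 faithChk = true := by decide +kernel

theorem faith_2 : allRange 1024 512 faithChk = true := by decide +kernel

theorem faith_3 : allRange 1536 512 faithChk = true := by decide +kernel

theorem faith_4 : allRange 2048 512 faithChk = true := by decide +kernel

theorem faith_5 : allRange 2560 512 faithChk = true := by decide +kernel

theorem faith_6 : allRange 3072 512 faithChk = true := by decide +kernel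

theorem faith_7 : allRange 3584 512 faithChk = true := by decide +kernel

theorem faith_8 : allRange 4096 512 faithChk = true := by decide +kernel

theorem faith_9 : allRange 4608 512 faithChk = true := by decide +kernel

theorem faith_10 : allRange 5120 512 faithChk = true := by decide +kernel

theorem faith_11 : allRange 5632 512 faithChk = true := by decide +kernel

theorem faith_12 : allRange 6144 512 faithChk = true := by decide +kernel

theorem faith_13 : allRange 6656 512 faithChk = true := by decide +kernel

theorem faith_14 : allRange 7168 512 faithChk = true := by decide +kernel

theorem faith_15 : allRange 7680 512 faithChk = true := by decide +kernel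

theorem faith_ok (i : ℕ) (hi : i < 8192) : faithChk i = true := by
  refine range_join (n := 512) (m := 16) (fun c hc => ?_) i hi
  interval_cases c
  exacts [faith_0, faith_1, faith_2, faith_3, faith_4, faith_5, faith_6, faith_7, faith_8, faith_9, faith_10, faith_11, faith_12, faith_13, faith_14, faith_15]

end H76.RuTwo
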