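import Mathlib
import Cfsg.Agent.H76.RuTwo.Defs

/-! Inverses, fourth powers and the centre. -/

set_option autoImplicit false
set_option maxRecDepth 100000

namespace H76.RuTwo

open H93.Coset (allRange)

theorem group_0 : allRange 0 256 groupChk = true := by decide +kernel

theorem group_1 : allRange 256 256 groupChk = true := by decide +kernel

theorem group_2 : allRange 512 256 groupChk = true := by decide +kernel

theorem group_3 : allRange 768 256 groupChk = true := by decide +kernel

theorem group_4 : allRange 1024 256 groupChk = true := by decide +kernel

theorem group_5 : allRange 1280 256 groupChk = true := by decide +kernel

theorem group_6 : allRange 1536 256 groupChk = true := by decide +kernel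

theorem group_7 : allRange 1792 256 groupChk = true := by decide +kernel

theorem group_8 : allRange 2048 256 groupChk = true := by decide +kernel

theorem group_9 : allRange 2304 256 groupChk = true := by decide +kernel

theorem group_10 : allRange 2560 256 groupChk = true := by decide +kernel

theorem group_11 : allRange 2816 256 groupChk = true := by decide +kernel

theorem group_12 : allRange 3072 256 groupChk = true := by decide +kernel

theorem group_13 : allRange 3328 256 groupChk = true := by decide +kernel

theorem group_14 : allRange 3584 256 groupChk = true := by decide +kernel

theorem group_15 : allRange 3840 256 groupChk = true := by decide +kernel

theorem group_16 : allRange 4096 256 groupChk = true := by decide +kernel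

theorem group_17 : allRange 4352 256 groupChk = true := by decide +kernel

theorem group_18 : allRange 4608 256 groupChk = true := by decide +kernel

theorem group_19 : allRange 4864 256 groupChk = true := by decide +kernel

theorem group_20 : allRange 5120 256 groupChk = true := by decide +kernel

theorem group_21 : allRange 5376 256 groupChk = true := by decide +kernel

theorem group_22 : allRange 5632 256 groupChk = true := by decide +kernel

theorem group_23 : allRange 5888 256 groupChk = true := by decide +kernel

theorem group_24 : allRange 6144 256 groupChk = true := by decide +kernel

theorem group_25 : allRange 6400 256 groupChk = true := by decide +kernel

theorem group_26 : allRange 6656 256 groupChk = true := by decide +kernel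

theorem group_27 : allRange 6912 256 groupChk = true := by decide +kernel

theorem group_28 : allRange 7168 256 groupChk = true := by decide +kernel

theorem group_29 : allRange 7424 256 groupChk = true := by decide +kernel

theorem group_30 : allRange 7680 256 groupChk = true := by decide +kernel

theorem group_31 : allRange 7936 256 groupChk = true := by decide +kernel

theorem group_ok (i : ℕ) (hi : i < 8192) : groupChk i = true := by
  refine range_join (n := 256) (m := 32) (fun c hc => ?_) i hi
  interval_cases c
  exacts [group_0, group_1, group_2, group_3, group_4, group_5, group_6, group_7, group_8, group_9, group_10, group_11, group_12, group_13, group_14, group_15, group_16, group_17, group_18, group_19, group_20, group_21, group_22, group_23, group_24, group_25, group_26, group_27, group_28, group_29, group_30, group_31]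

theorem four_ok : fourChk = true := by decide +kernel

end H76.RuTwo
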