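import Mathlib
import Cfsg.Agent.H76.RuTwo.Defs

/-! Orders of the generators. -/

set_option autoImplicit false
set_option maxRecDepth 100000

namespace H76.RuTwo

open H93.Coset (allRange)

theorem order_0 : allRange 0 512 orderChk = true := by decide +kernel

theorem order_1 : allRange 512 512 orderChk = true := by decide +kernel

theorem order_2 : allRange 1024 512 orderChk = true := by decide +kernel

theorem order_3 : allRange 1536 512 orderChk = true := by decide +kernel

theorem order_4 : allRange 2048 512 orderChk = true := by decide +kernel

theorem order_5 : allRange 2560 512 orderChk = true := by decide +kernel

theorem order_6 : allRange 3072 512 orderChk = true := by decide +kernel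

theorem order_7 : allRange 3584 512 orderChk = true := by decide +kernel

theorem order_8 : allRange 4096 512 orderChk = true := by decide +kernel

theorem order_9 : allRange 4608 512 orderChk = true := by decide +kernel

theorem order_10 : allRange 5120 512 orderChk = true := by decide +kernel

theorem order_11 : allRange 5632 512 orderChk = true := by decide +kernel

theorem order_12 : allRange 6144 512 orderChk = true := by decide +kernel

theorem order_13 : allRange 6656 512 orderChk = true := by decide +kernel

theorem order_14 : allRange 7168 512 orderChk = true := by decide +kernel

theorem order_15 : allRange 7680 512 orderChk = true := by decide +kernel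

theorem order_ok (i : ℕ) (hi : i < 8192) : orderChk i = true := by
  refine range_join (n := 512) (m := 16) (fun c hc => ?_) i hi
  interval_cases c
  exacts [order_0, order_1, order_2, order_3, order_4, order_5, order_6, order_7, order_8, order_9, order_10, order_11, order_12, order_13, order_14, order_15]

end H76.RuTwo
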