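import Mathlib
import Cfsg.Agent.H76.RuTwo.Defs

/-! Generator 0. -/

set_option autoImplicit false
set_option maxRecDepth 100000

namespace H76.RuTwo

open H93.Coset (allRange)

theorem rel0_0 : allRange 0 512 (relChk 0) = true := by decide +kernel

theorem rel0_1 : allRange 512 512 (relChk 0) = true := by decide +kernel

theorem rel0_2 : allRange 1024 512 (relChk 0) = true := by decide +kernel

theorem rel0_3 : allRange 1536 512 (relChk 0) = true := by decide +kernel

theorem rel0_4 : allRange 2048 512 (relChk 0) = true := by decide +kernel

theorem rel0_5 : allRange 2560 512 (relChk 0) = true := by decide +kernel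

theorem rel0_6 : allRange 3072 512 (relChk 0) = true := by decide +kernel

theorem rel0_7 : allRange 3584 512 (relChk 0) = true := by decide +kernel

theorem rel0_8 : allRange 4096 512 (relChk 0) = true := by decide +kernel

theorem rel0_9 : allRange 4608 512 (relChk 0) = true := by decide +kernel

theorem rel0_10 : allRange 5120 512 (relChk 0) = true := by decide +kernel

theorem rel0_11 : allRange 5632 512 (relChk 0) = true := by decide +kernel

theorem rel0_12 : allRange 6144 512 (relChk 0) = true := by decide +kernel

theorem rel0_13 : allRange 6656 512 (relChk 0) = true := by decide +kernel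

theorem rel0_14 : allRange 7168 512 (relChk 0) = true := by decide +kernel

theorem rel0_15 : allRange 7680 512 (relChk 0) = true := by decide +kernel

theorem rel0_ok (i : ℕ) (hi : i < 8192) : relChk 0 i = true := by
  refine range_join (n := 512) (m := 16) (fun c hc => ?_) i hi
  interval_cases c
  exacts [rel0_0, rel0_1, rel0_2, rel0_3, rel0_4, rel0_5, rel0_6, rel0_7, rel0_8, rel0_9, rel0_10, rel0_11, rel0_12, rel0_13, rel0_14, rel0_15]

end H76.RuTwo
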