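import Mathlib
import Cfsg.Agent.H76.RuTwo.Defs

/-! Generator 1. -/

set_option autoImplicit false
set_option maxRecDepth 100000

namespace H76.RuTwo

open H93.Coset (allRange)

theorem rel1_0 : allRange 0 512 (relChk 1) = true := by decide +kernel

theorem rel1_1 : allRange 512 512 (relChk 1) = true := by decide +kernel

theorem rel1_2 : allRange 1024 512 (relChk 1) = true := by decide +kernel

theorem rel1_3 : allRange 1536 512 (relChk 1) = true := by decide +kernel

theorem rel1_4 : allRange 2048 512 (relChk 1) = true := by decide +kernel

theorem rel1_5 : allRange 2560 512 (relChk 1) = true := by decide +kernel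

theorem rel1_6 : allRange 3072 512 (relChk 1) = true := by decide +kernel

theorem rel1_7 : allRange 3584 512 (relChk 1) = true := by decide +kernel

theorem rel1_8 : allRange 4096 512 (relChk 1) = true := by decide +kernel

theorem rel1_9 : allRange 4608 512 (relChk 1) = true := by decide +kernel

theorem rel1_10 : allRange 5120 512 (relChk 1) = true := by decide +kernel

theorem rel1_11 : allRange 5632 512 (relChk 1) = true := by decide +kernel

theorem rel1_12 : allRange 6144 512 (relChk 1) = true := by decide +kernel

theorem rel1_13 : allRange 6656 512 (relChk 1) = true := by decide +kernel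

theorem rel1_14 : allRange 7168 512 (relChk 1) = true := by decide +kernel

theorem rel1_15 : allRange 7680 512 (relChk 1) = true := by decide +kernel

theorem rel1_ok (i : ℕ) (hi : i < 8192) : relChk 1 i = true := by
  refine range_join (n := 512) (m := 16) (fun c hc => ?_) i hi
  interval_cases c
  exacts [rel1_0, rel1_1, rel1_2, rel1_3, rel1_4, rel1_5, rel1_6, rel1_7, rel1_8, rel1_9, rel1_10, rel1_11, rel1_12, rel1_13, rel1_14, rel1_15]

end H76.RuTwo
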