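import Mathlib
import Cfsg.Agent.H76.RuTwo.Defs

/-! Generator 2. -/

set_option autoImplicit false
set_option maxRecDepth 100000

namespace H76.RuTwo

open H93.Coset (allRange)

theorem rel2_0 : allRange 0 512 (relChk 2) = true := by decide +kernel

theorem rel2_1 : allRange 512 512 (relChk 2) = true := by decide +kernel

theorem rel2_2 : allRange 1024 512 (relChk 2) = true := by decide +kernel

theorem rel2_3 : allRange 1536 512 (relChk 2) = true := by decide +kernel

theorem rel2_4 : allRange 2048 512 (relChk 2) = true := by decide +kernel

theorem rel2_5 : allRange 2560 512 (relChk 2) = true := by decide +kernel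

theorem rel2_6 : allRange 3072 512 (relChk 2) = true := by decide +kernel

theorem rel2_7 : allRange 3584 512 (relChk 2) = true := by decide +kernel

theorem rel2_8 : allRange 4096 512 (relChk 2) = true := by decide +kernel

theorem rel2_9 : allRange 4608 512 (relChk 2) = true := by decide +kernel

theorem rel2_10 : allRange 5120 512 (relChk 2) = true := by decide +kernel

theorem rel2_11 : allRange 5632 512 (relChk 2) = true := by decide +kernel

theorem rel2_12 : allRange 6144 512 (relChk 2) = true := by decide +kernel

theorem rel2_13 : allRange 6656 512 (relChk 2) = true := by decide +kernel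

theorem rel2_14 : allRange 7168 512 (relChk 2) = true := by decide +kernel

theorem rel2_15 : allRange 7680 512 (relChk 2) = true := by decide +kernel

theorem rel2_ok (i : ℕ) (hi : i < 8192) : relChk 2 i = true := by
  refine range_join (n := 512) (m := 16) (fun c hc => ?_) i hi
  interval_cases c
  exacts [rel2_0, rel2_1, rel2_2, rel2_3, rel2_4, rel2_5, rel2_6, rel2_7, rel2_8, rel2_9, rel2_10, rel2_11, rel2_12, rel2_13, rel2_14, rel2_15]

end H76.RuTwo
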