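import Mathlib
import Cfsg.Agent.H76.RuTwo.Defs

/-! The tree of representatives. -/

set_option autoImplicit false
set_option maxRecDepth 100000

namespace H76.RuTwo

open H93.Coset (allRange)

theorem tree_ok : allRange 0 8192 treeChk = true := by decide +kernel

theorem cent_ok : centChk = true := by decide +kernel

end H76.RuTwo
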